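import Mathlib.Algebra.MvPolynomial.Derivation
import Mathlib.RingTheory.Derivation.Basic
import Mathlib.Data.Nat.Choose.Sum
import Mathlib.Data.Nat.Choose.Dvd
import Mathlib.Algebra.CharP.Algebra
import Mathlib.RingTheory.MvPolynomial.Basic
import Mathlib.Data.ZMod.Basic
import Mathlib.Algebra.Field.ZMod
import Mathlib.Tactic.LinearCombination

/-!
# The p-th power of a multiple of a derivation

In characteristic `p` the `p`-th iterate of a derivation is a derivation, and `(f δ)^p` is a
combination of `δ^p` and `δ` with universal coefficients.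
-/

open Finset

namespace Groth.Agent.H6PCurv

section Iter

variable {A B : Type*} [CommRing A] [CommRing B] [Algebra A B] (D : Derivation A B B)

theorem iterate_leibniz (n : ℕ) (a b : B) :
    (⇑D)^[n] (a * b) =
      ∑ i ∈ range (n + 1), (n.choose i : B) * ((⇑D)^[i] a * (⇑D)^[n - i] b) := by
  induction n with
  | zero => simp
  | succ n ih =>
    rw [sum_choose_succ_mul (fun i j => (⇑D)^[i] a * (⇑D)^[j] b) n, Function.iterate_succ_apply', ih,
      map_sum, ← sum_add_distrib]
    refine sum_congr rfl fun i hi => ?_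
    rw [mem_range] at hi
    rw [Derivation.leibniz, Derivation.leibniz, Derivation.map_natCast, smul_zero, add_zero,
      show n + 1 - i = n - i + 1 by omega]
    simp only [smul_eq_mul, Function.iterate_succ_apply']
    ring

variable (p : ℕ) [hp : Fact p.Prime] [CharP B p]

theorem iterate_p_leibniz (a b : B) :
    (⇑D)^[p] (a * b) = a * (⇑D)^[p] b + b * (⇑D)^[p] a := by
  rw [iterate_leibniz, sum_range_succ]
  have h : ∀ i ∈ range p, i ≠ 0 →
      ((p.choose i : ℕ) : B) * ((⇑D)^[i] a * (⇑D)^[p - i] b) = 0 := fun i hi h0 => by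
    rw [(CharP.cast_eq_zero_iff B p _).2
      (hp.out.dvd_choose_self h0 (mem_range.1 hi)), zero_mul]
  rw [sum_eq_single_of_mem 0 (mem_range.2 hp.out.pos) h]
  simp [mul_comm]

/-- The `p`-th iterate of a derivation, as a derivation. -/
def iterPow : Derivation A B B :=
  Derivation.mk' ((D : B →ₗ[A] B) ^ p) fun a b => by
    simp only [Module.End.pow_apply, smul_eq_mul]
    exact iterate_p_leibniz D p a b

theorem iterPow_apply (b : B) : iterPow D p b = (⇑D)^[p] b := by
  simp [iterPow, Module.End.pow_apply]

end Iter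

section Cf

variable {B : Type*} [CommRing B]

/-- The coefficients of `(f δ)^n` in terms of powers of `δ`. -/
def cf (D : B → B) (f : B) : ℕ → ℕ → B
  | 0, 0 => 1
  | 0, _ + 1 => 0
  | n + 1, 0 => f * D (cf D f n 0)
  | n + 1, k + 1 => f * (D (cf D f n (k + 1)) + cf D f n k)

variable {A : Type*} [CommRing A] [Algebra A B] (D : Derivation A B B) (f : B)

theorem cf_eq_zero_of_lt : ∀ {n k : ℕ}, n < k → cf D f n k = 0
  | 0, _ + 1, _ => rfl
  | n + 1, 0, h => by omega
  | n + 1, k + 1, h => by
    rw [cf, cf_eq_zero_of_lt (n := n) (k := k + 1) (by omega),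
      cf_eq_zero_of_lt (n := n) (k := k) (by omega), map_zero, add_zero, mul_zero]

theorem cf_self : ∀ n : ℕ, cf D f n n = f ^ n
  | 0 => by simp [cf]
  | n + 1 => by
    rw [cf, cf_eq_zero_of_lt D f (Nat.lt_succ_self n), cf_self n, map_zero, zero_add, pow_succ']

theorem cf_zero_right : ∀ n : ℕ, cf D f (n + 1) 0 = 0
  | 0 => by simp [cf]
  | n + 1 => by rw [cf, cf_zero_right n, map_zero, mul_zero]

theorem cf_zero_right' {n : ℕ} (hn : n ≠ 0) : cf D f n 0 = 0 := by
  obtain ⟨q, rfl⟩ := Nat.exists_eq_succ_of_ne_zero hn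
  exact cf_zero_right D f q

theorem iterate_smul {M : Type*} [AddCommGroup M] [Module B M] (δ : M →+ M)
    (hδ : ∀ (b : B) (m : M), δ (b • m) = D b • m + b • δ m) (n : ℕ) (m : M) :
    (fun x => f • δ x)^[n] m = ∑ k ∈ range (n + 1), cf D f n k • (⇑δ)^[k] m := by
  induction n with
  | zero => simp [cf]
  | succ n ih =>
    rw [Function.iterate_succ_apply', ih, map_sum, smul_sum, sum_range_succ' _ (n + 1)]
    simp only [hδ, cf, smul_add, add_smul, mul_add, mul_smul, sum_add_distrib,
      Function.iterate_succ_apply']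
    rw [sum_range_succ' (fun k => f • D (cf D f n k) • (⇑δ)^[k] m) n]
    rw [sum_range_succ (fun k => f • D (cf D f n (k + 1)) • δ ((⇑δ)^[k] m)) n]
    rw [cf_eq_zero_of_lt D f (Nat.lt_succ_self n), map_zero, zero_smul, smul_zero, add_zero]
    simp only [Function.iterate_succ_apply', Function.iterate_zero_apply]
    abel

theorem map_cf {B' : Type*} [CommRing B'] {A' : Type*} [CommRing A'] [Algebra A' B']
    (D' : Derivation A' B' B') (φ : B →+* B') (h : ∀ q, D' (φ q) = φ (D q)) :
    ∀ n k : ℕ, φ (cf D f n k) = cf D' (φ f) n k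
  | 0, 0 => map_one φ
  | 0, _ + 1 => map_zero φ
  | n + 1, 0 => by rw [cf, cf, map_mul, ← h, map_cf D' φ h n 0]
  | n + 1, k + 1 => by
    rw [cf, cf, map_mul, map_add, ← h, map_cf D' φ h n (k + 1), map_cf D' φ h n k]

end Cf

section Univ

open MvPolynomial

variable (p : ℕ) [hp : Fact p.Prime]

/-- The universal differential ring on one element. -/
noncomputable def univD : Derivation (ZMod p) (MvPolynomial ℕ (ZMod p)) (MvPolynomial ℕ (ZMod p)) :=
  mkDerivation _ fun i => X (i + 1)

/-- The universal differential ring with a primitive of one. -/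
noncomputable def univDT : Derivation (ZMod p) (MvPolynomial (Option ℕ) (ZMod p))
    (MvPolynomial (Option ℕ) (ZMod p)) :=
  mkDerivation _ fun o => o.elim 1 fun i => X (some (i + 1))

theorem comm_univ {A B : Type*} [CommRing A] [CommRing B] [Algebra A B] (D : Derivation A B B)
    (φ : MvPolynomial ℕ (ZMod p) →+* B) (hX : ∀ i, D (φ (X i)) = φ (X (i + 1)))
    (q : MvPolynomial ℕ (ZMod p)) : D (φ q) = φ (univD p q) := by
  induction q using MvPolynomial.induction_on with
  | C a =>
    have ha : (C a : MvPolynomial ℕ (ZMod p)) = (a.val : MvPolynomial ℕ (ZMod p)) := by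
      rw [← map_natCast (C (σ := ℕ)) a.val, ZMod.natCast_zmod_val]
    rw [ha, map_natCast, Derivation.map_natCast, Derivation.map_natCast, map_zero]
  | add q r hq hr => rw [map_add, map_add, hq, hr, map_add, map_add]
  | mul_X q i hq =>
    rw [map_mul, Derivation.leibniz, Derivation.leibniz, hX, hq, univD, mkDerivation_X]
    simp [smul_eq_mul]

theorem iterate_univDT_pow (j : ℕ) : ∀ k : ℕ, (⇑(univDT p))^[k] (X none ^ j) =
    (j.descFactorial k : MvPolynomial (Option ℕ) (ZMod p)) * X none ^ (j - k)
  | 0 => by simp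
  | k + 1 => by
    rw [Function.iterate_succ_apply', iterate_univDT_pow j k, Derivation.leibniz,
      Derivation.map_natCast, Derivation.leibniz_pow, Nat.descFactorial_succ]
    simp [univDT, mkDerivation_X, nsmul_eq_mul, Nat.sub_sub]
    ring

theorem cf_univ_eq_zero : ∀ k : ℕ, 2 ≤ k → k < p →
    cf (univD p) (X 0) p k = 0 := by
  classical
  let j : MvPolynomial ℕ (ZMod p) →+* MvPolynomial (Option ℕ) (ZMod p) :=
    (rename (some : ℕ → Option ℕ)).toRingHom
  have hj : ∀ q, univDT p (j q) = j (univD p q) := comm_univ p (univDT p) j fun i => by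
    simp [j, univDT, mkDerivation_X]
  haveI : CharP (MvPolynomial (Option ℕ) (ZMod p)) p := inferInstance
  let g : MvPolynomial (Option ℕ) (ZMod p) := X (some 0)
  let E := iterPow (g • univDT p) p
  have hE : ∀ x, E x = ∑ k ∈ range (p + 1), cf (univDT p) g p k • (⇑(univDT p))^[k] x := fun x => by
    rw [iterPow_apply]
    refine Eq.trans ?_ (iterate_smul (univDT p) g (univDT p).toLinearMap.toAddMonoidHom
      (fun b m => ?_) p x)
    · rfl
    · change univDT p (b * m) = univDT p b * m + b * univDT p m
      rw [Derivation.leibniz, smul_eq_mul, smul_eq_mul]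
      ring
  have h0 : cf (univDT p) g p 0 = 0 := cf_zero_right' _ _ hp.out.ne_zero
  have h1 : E (X none) = cf (univDT p) g p 1 := by
    have hp1 := hp.out.one_lt
    rw [hE, sum_eq_single_of_mem 1 (mem_range.2 (by omega)) fun k _ hk => ?_]
    · simp [univDT, mkDerivation_X]
    · have := iterate_univDT_pow p 1 k
      rw [pow_one] at this
      rw [this]
      rcases Nat.eq_zero_or_pos k with rfl | hk0
      · simp [h0]
      · rw [Nat.descFactorial_of_lt (by omega)]; simp
  have key : ∀ k, 2 ≤ k → k < p → cf (univDT p) g p k = 0 := by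
    intro k
    induction k using Nat.strong_induction_on with
    | _ k ih =>
      intro h2 hk
      have e1 : E (X none ^ k) = (k : MvPolynomial (Option ℕ) (ZMod p)) *
          (X none ^ (k - 1) * cf (univDT p) g p 1) := by
        rw [Derivation.leibniz_pow, h1]
        simp [nsmul_eq_mul]
      rw [hE, sum_eq_add_of_mem 1 k (mem_range.2 (by omega)) (mem_range.2 (by omega)) (by omega)
        fun i _ hi => ?_] at e1
      · rw [iterate_univDT_pow, iterate_univDT_pow, Nat.descFactorial_one, Nat.descFactorial_self,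
          Nat.sub_self, pow_zero, mul_one, smul_eq_mul, smul_eq_mul] at e1
        have e2 : cf (univDT p) g p k * C ((k.factorial : ZMod p)) = 0 := by
          rw [map_natCast]
          linear_combination e1
        have hu : IsUnit (C ((k.factorial : ZMod p)) : MvPolynomial (Option ℕ) (ZMod p)) :=
          (isUnit_iff_ne_zero.2 fun h => by
            rw [ZMod.natCast_eq_zero_iff, hp.out.dvd_factorial] at h
            omega).map C
        exact hu.mul_left_eq_zero.1 e2
      · rw [iterate_univDT_pow]
        rcases Nat.lt_or_ge i k with h | h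
        · rcases Nat.lt_or_ge i 2 with h' | h'
          · obtain rfl : i = 0 := by omega
            simp [h0]
          · rw [ih i h h' (by omega), zero_smul]
        · rw [Nat.descFactorial_of_lt (by omega), Nat.cast_zero, zero_mul, smul_zero]
  intro k h2 hk
  apply rename_injective (R := ZMod p) (some : ℕ → Option ℕ) (Option.some_injective ℕ)
  rw [map_zero]
  refine Eq.trans ?_ (key k h2 hk)
  exact (map_cf (univD p) (X 0) (univDT p) j hj p k).trans (by simp [j, g])

variable {A B : Type*} [CommRing A] [CommRing B] [Algebra A B] [CharP B p]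

theorem cf_eq_zero (D : Derivation A B B) (f : B) (k : ℕ) (h2 : 2 ≤ k) (hk : k < p) :
    cf D f p k = 0 := by
  let φ : MvPolynomial ℕ (ZMod p) →+* B :=
    eval₂Hom (ZMod.castHom dvd_rfl B) fun i => (⇑D)^[i] f
  have hφ : ∀ q, D (φ q) = φ (univD p q) := comm_univ p D φ fun i => by
    simp [φ, Function.iterate_succ_apply']
  have h := map_cf (univD p) (X 0) D φ hφ p k
  rw [cf_univ_eq_zero p k h2 hk, map_zero] at h
  simpa [φ] using h.symm

/-- Hochschild's formula. -/
theorem iterate_smul_p (D : Derivation A B B) (f : B) {M : Type*} [AddCommGroup M] [Module B M]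
    (δ : M →+ M) (hδ : ∀ (b : B) (m : M), δ (b • m) = D b • m + b • δ m) (m : M) :
    (fun x => f • δ x)^[p] m = f ^ p • (⇑δ)^[p] m + cf D f p 1 • δ m := by
  have hp1 := hp.out.one_lt
  rw [iterate_smul D f δ hδ, sum_range_succ, cf_self, add_comm,
    sum_eq_single_of_mem 1 (mem_range.2 (by omega)) fun k hk hk1 => ?_]
  · rfl
  · rcases Nat.eq_zero_or_pos k with rfl | hk0
    · rw [cf_zero_right' _ _ hp.out.ne_zero, zero_smul]
    · rw [cf_eq_zero p D f k (by omega) (mem_range.1 hk), zero_smul]

end Univ

end Groth.Agent.H6PCurv
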